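/-
Fully ramified sections under a Frobenius action of a cyclic group: counting lemmas and the
congruence for the ramification index.
-/
import Cfsg.Agent.Lib.CharTheory.ExtCriteria
import Cfsg.Agent.Lib.CharTheory.More

namespace CfsgLib.FullyRamified

open Cfsg CfsgLib.CharTheory
open scoped ComplexConjugate

universe u

/-- Integers whose variance is as small as possible. -/
theorem dvd_pred_or_succ {ι : Type*} (T : Finset ι) (c : ι → ℤ) {n : ℕ} (hn : 2 ≤ n)
    (hT : T.card = n) {e : ℤ} (he : ∑ i ∈ T, c i = e)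
    (h : (n : ℤ) * ∑ i ∈ T, c i ^ 2 = e ^ 2 + n - 1) :
    (n : ℤ) ∣ e - 1 ∨ (n : ℤ) ∣ e + 1 := by
  have hn0 : (0 : ℤ) < n := by exact_mod_cast (by omega : 0 < n)
  obtain ⟨q, r, hr0, hrn, hqr⟩ : ∃ q r : ℤ, 0 ≤ r ∧ r < n ∧ e = n * q + r :=
    ⟨e / n, e % n, Int.emod_nonneg _ hn0.ne', Int.emod_lt_of_pos _ hn0,
      (Int.mul_ediv_add_emod e n).symm⟩
  have hsum : (0 : ℤ) ≤ ∑ i ∈ T, (c i - q) * (c i - q - 1) := by
    refine Finset.sum_nonneg fun i _ => ?_
    rcases le_or_gt (c i - q) 0 with hle | hlt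
    · exact mul_nonneg_of_nonpos_of_nonpos hle (by omega)
    · exact mul_nonneg hlt.le (by omega)
  have hexp : ∑ i ∈ T, (c i - q) * (c i - q - 1) =
      ∑ i ∈ T, c i ^ 2 - (2 * q + 1) * e + n * (q ^ 2 + q) := by
    rw [← he, Finset.mul_sum, ← Finset.sum_sub_distrib]
    have : (n : ℤ) * (q ^ 2 + q) = ∑ i ∈ T, (q ^ 2 + q) := by
      simp [hT]
    rw [this, ← Finset.sum_add_distrib]
    exact Finset.sum_congr rfl fun i _ => by ring
  rw [hexp] at hsum
  have hkey : (r - 1) * ((n : ℤ) - 1 - r) ≤ 0 := by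
    have := mul_le_mul_of_nonneg_left hsum hn0.le
    rw [mul_zero, mul_add, mul_sub, h, hqr] at this
    nlinarith [this]
  rcases eq_or_ne r 0 with rfl | hr
  · exfalso
    have h1 : (n : ℤ) ∣ 1 := by
      refine ⟨-(∑ i ∈ T, c i ^ 2) + n * q ^ 2 + 1, ?_⟩
      have h' := h
      rw [hqr] at h'
      linear_combination h'
    have := Int.le_of_dvd one_pos h1
    omega
  rcases eq_or_ne r 1 with rfl | hr1
  · left; exact ⟨q, by rw [hqr]; ring⟩
  · right
    have h2 : (r : ℤ) = n - 1 := by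
      by_contra hne
      have : 0 < (r - 1) * ((n : ℤ) - 1 - r) := mul_pos (by omega) (by omega)
      omega
    exact ⟨q + 1, by rw [hqr, h2]; ring⟩

variable {Γ : Type u} [Group Γ] [Fintype Γ]

open scoped Classical in
/-- Outside the kernel every element is conjugate into the complement, each of them equally
often. -/
theorem sum_conj_complement (G N H : Subgroup Γ) [hG : G.Normal] [hN : N.Normal] (hNH : N ≤ H)
    (hint : ∀ h ∈ H, h ∈ G → h ∈ N)
    (hfrob : ∀ x : Γ, x ∉ G → ∀ g : Γ, g ∈ G → x * g * x⁻¹ * g⁻¹ ∈ N → g ∈ N)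
    (hcount : Nat.card G * (Finset.univ.filter (fun h : Γ => h ∈ H ∧ h ∉ G)).card =
      Nat.card N * (Finset.univ.filter (fun y : Γ => y ∉ G)).card)
    {F : Γ → ℂ} (hF : IsClassFunction Γ F) :
    (Nat.card N : ℂ) * ∑ y ∈ Finset.univ.filter (fun y : Γ => y ∉ G), F y =
      (Nat.card G : ℂ) * ∑ h ∈ Finset.univ.filter (fun h : Γ => h ∈ H ∧ h ∉ G), F h := by
  set S : Finset Γ := Finset.univ.filter (fun h : Γ => h ∈ H ∧ h ∉ G) with hS
  set T : Finset Γ := Finset.univ.filter (fun y : Γ => y ∉ G) with hTdef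
  set A : Finset Γ := Finset.univ.filter (fun g : Γ => g ∈ G) with hA
  have hAcard : A.card = Nat.card G := by
    rw [hA, Nat.card_eq_fintype_card, Fintype.card_subtype]
  have hmem : ∀ p ∈ A ×ˢ S, p.1 * p.2 * p.1⁻¹ ∈ T := by
    intro p hp
    rw [Finset.mem_product, hS, hA, Finset.mem_filter, Finset.mem_filter] at hp
    rw [hTdef, Finset.mem_filter]
    refine ⟨Finset.mem_univ _, fun h => hp.2.2.2 ?_⟩
    simpa [mul_assoc] using hG.conj_mem _ h p.1⁻¹
  have hle : ∀ y ∈ T, ((A ×ˢ S).filter (fun p => p.1 * p.2 * p.1⁻¹ = y)).card ≤ Nat.card N := by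
    intro y _
    rcases ((A ×ˢ S).filter (fun p => p.1 * p.2 * p.1⁻¹ = y)).eq_empty_or_nonempty with he | ⟨p₀, hp₀⟩
    · rw [he]; simp
    rw [Nat.card_eq_fintype_card, Fintype.card_subtype]
    refine Finset.card_le_card_of_injOn (fun p => p₀.1⁻¹ * p.1) ?_ ?_
    · intro p hp
      rw [Finset.mem_coe, Finset.mem_filter, Finset.mem_product, hA, hS, Finset.mem_filter,
        Finset.mem_filter] at hp
      rw [Finset.mem_filter, Finset.mem_product, hA, hS, Finset.mem_filter, Finset.mem_filter]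
        at hp₀
      rw [Finset.mem_coe, Finset.mem_filter]
      refine ⟨Finset.mem_univ _, ?_⟩
      obtain ⟨⟨⟨-, hg⟩, -, hh, hhG⟩, heq⟩ := hp
      obtain ⟨⟨⟨-, hg₀⟩, -, hh₀, hhG₀⟩, heq₀⟩ := hp₀
      set v := p₀.1⁻¹ * p.1 with hv
      have hvG : v ∈ G := G.mul_mem (G.inv_mem hg₀) hg
      have hh' : p₀.2 = v * p.2 * v⁻¹ := by
        have : p₀.2 = p₀.1⁻¹ * y * p₀.1 := by rw [← heq₀]; group
        rw [this, ← heq, hv]; group
      have h1 : p.2⁻¹ * p₀.2 ∈ N := by
        refine hint _ (H.mul_mem (H.inv_mem hh) hh₀) ?_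
        rw [hh', show p.2⁻¹ * (v * p.2 * v⁻¹) = (p.2⁻¹ * v * p.2) * v⁻¹ by group]
        refine G.mul_mem ?_ (G.inv_mem hvG)
        simpa using hG.conj_mem _ hvG p.2⁻¹
      refine hfrob p.2 hhG v hvG ?_
      have h2 : p.2 * v * p.2⁻¹ * v⁻¹ = p.2 * (p.2⁻¹ * p₀.2)⁻¹ * p.2⁻¹ := by rw [hh']; group
      rw [h2]
      exact hN.conj_mem _ (N.inv_mem h1) _
    · intro p hp p' hp' hpp
      rw [Finset.mem_coe, Finset.mem_filter] at hp hp'
      have e1 : p.1 = p'.1 := mul_left_cancel (a := p₀.1⁻¹) hpp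
      refine Prod.ext e1 ?_
      have e2 := hp.2.trans hp'.2.symm
      rw [e1] at e2
      exact mul_left_cancel (mul_right_cancel e2)
  have htot : ∑ y ∈ T, ((A ×ˢ S).filter (fun p => p.1 * p.2 * p.1⁻¹ = y)).card =
      ∑ _y ∈ T, Nat.card N := by
    rw [← Finset.card_eq_sum_card_fiberwise hmem, Finset.card_product, hAcard, hcount,
      Finset.sum_const, smul_eq_mul, mul_comm]
  have heach := (Finset.sum_eq_sum_iff_of_le hle).mp htot
  calc (Nat.card N : ℂ) * ∑ y ∈ T, F y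
      = ∑ y ∈ T, (((A ×ˢ S).filter (fun p => p.1 * p.2 * p.1⁻¹ = y)).card : ℂ) * F y := by
        rw [Finset.mul_sum]
        exact Finset.sum_congr rfl fun y hy => by rw [heach y hy]
    _ = ∑ y ∈ T, ∑ p ∈ (A ×ˢ S).filter (fun p => p.1 * p.2 * p.1⁻¹ = y),
          F (p.1 * p.2 * p.1⁻¹) := by
        refine Finset.sum_congr rfl fun y _ => ?_
        rw [← nsmul_eq_mul, ← Finset.sum_const]
        exact Finset.sum_congr rfl fun p hp => by rw [(Finset.mem_filter.mp hp).2]
    _ = ∑ p ∈ A ×ˢ S, F (p.1 * p.2 * p.1⁻¹) :=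
        Finset.sum_fiberwise_of_maps_to hmem fun p => F (p.1 * p.2 * p.1⁻¹)
    _ = ∑ p ∈ A ×ˢ S, F p.2 := Finset.sum_congr rfl fun p _ => hF _ _
    _ = (Nat.card G : ℂ) * ∑ h ∈ S, F h := by
        rw [Finset.sum_product]
        simp [hAcard]

open scoped Classical in
/-- A finite sum splits along a subgroup. -/
theorem sum_eq_subgroup_add (H : Subgroup Γ) [Fintype H] (F : Γ → ℂ) :
    ∑ y : Γ, F y = (∑ h : H, F h) + ∑ y ∈ Finset.univ.filter (fun y : Γ => y ∉ H), F y := by
  rw [← Finset.sum_filter_add_sum_filter_not Finset.univ (fun y : Γ => y ∈ H) F]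
  congr 1
  exact Finset.sum_subtype (p := (· ∈ H)) _ (fun y => by simp) F

/-- The congruence for the ramification index of a fully ramified section. -/
theorem index_dvd (G N : Subgroup Γ) [hG : G.Normal] [hN : N.Normal] [Fintype G] [Fintype N]
    (hNG : N ≤ G) (hGlt : G ≠ ⊤) (hcyc : IsCyclic (Γ ⧸ G))
    (hfrob : ∀ x : Γ, x ∉ G → ∀ g : Γ, g ∈ G → x * g * x⁻¹ * g⁻¹ ∈ N → g ∈ N)
    {θ : N → ℂ} (hθ : IsIrrCharacter N θ)
    (hinv : ∀ (x : Γ) (n : N), θ ⟨x * n * x⁻¹, hN.conj_mem n n.2 x⟩ = θ n)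
    {χ : G → ℂ} (hχ : IsIrrCharacter G χ) (e : ℕ)
    (hram : indFun (N.subgroupOf G) (fun n : N.subgroupOf G => θ ⟨(n : G), n.2⟩) =
      fun g => (e : ℂ) * χ g) :
    (G.index : ℤ) ∣ (e : ℤ) - 1 ∨ (G.index : ℤ) ∣ (e : ℤ) + 1 := by
  classical
  set n := G.index with hn
  have hn2 : 2 ≤ n := by
    have h0 : n ≠ 0 := Subgroup.index_ne_zero_of_finite
    have h1 : n ≠ 1 := fun h => hGlt (Subgroup.index_eq_one.mp h)
    omega
  have hθ1 : θ 1 ≠ 0 := irr_ne_zero hθ
  -- values of the induced character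
  have := Fintype.ofFinite (N.subgroupOf G)
  have hNG' : (N.subgroupOf G).Normal := inferInstance
  set k := (N.subgroupOf G).index with hk
  have hkcard : Nat.card G = k * Nat.card N := by
    rw [hk, ← Nat.card_congr (Subgroup.subgroupOfEquivOfLe hNG).toEquiv, mul_comm,
      Subgroup.card_mul_index]
  have hin : ∀ m : N, (e : ℂ) * χ ⟨(m : Γ), hNG m.2⟩ = (k : ℂ) * θ m := by
    intro m
    have h := congrFun hram (⟨⟨(m : Γ), hNG m.2⟩, Subgroup.mem_subgroupOf.mpr m.2⟩ :
      N.subgroupOf G).1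
    refine h.symm.trans ((indFun_normal_apply (N.subgroupOf G) _ _).trans ?_)
    have : ∀ x : G, θ ⟨((x * ⟨(m : Γ), hNG m.2⟩ * x⁻¹ : G) : Γ),
        hN.conj_mem m m.2 (x : Γ)⟩ = θ m := fun x => hinv (x : Γ) m
    rw [Finset.sum_congr rfl (fun x _ => this x), Finset.sum_const, Finset.card_univ,
      nsmul_eq_mul, ← Nat.card_eq_fintype_card, Nat.card_congr (Subgroup.subgroupOfEquivOfLe hNG).toEquiv,
      hkcard]
    have : (Nat.card N : ℂ) ≠ 0 := Nat.cast_ne_zero.mpr Nat.card_pos.ne'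
    push_cast
    field_simp
  have hk0 : k ≠ 0 := Subgroup.index_ne_zero_of_finite
  have he0 : (e : ℂ) ≠ 0 := fun h => by
    have := hin 1
    rw [h, zero_mul] at this
    exact mul_ne_zero (Nat.cast_ne_zero.mpr hk0) hθ1 this.symm
  have hout : ∀ g : G, (g : Γ) ∉ N → χ g = 0 := fun g hg => by
    have h := congrFun hram g
    rw [indFun_normal_apply_not_mem (N.subgroupOf G) _ hg] at h
    exact (mul_eq_zero.mp h.symm).resolve_left he0
  -- the degree equation
  have hsumG : ∀ F : G → ℂ, (∀ g : G, (g : Γ) ∉ N → F g = 0) →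
      ∑ g : G, F g = ∑ m : N, F ⟨(m : Γ), hNG m.2⟩ := by
    intro F hF
    rw [← Finset.sum_subset (Finset.subset_univ (Finset.univ.filter fun g : G => (g : Γ) ∈ N))
      (fun g _ hg => hF g (by simpa using hg))]
    refine Finset.sum_bij' (fun g hg => (⟨(g : Γ), (Finset.mem_filter.mp hg).2⟩ : N))
      (fun m _ => (⟨(m : Γ), hNG m.2⟩ : G)) ?_ ?_ ?_ ?_ ?_
    · intros; exact Finset.mem_univ _
    · intro m _; simp
    · intros; rfl
    · intros; rfl
    · intros; rfl
  have hek : k = e ^ 2 := by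
    have h1 := sum_mul_conj_irr hχ
    rw [hsumG (fun g => χ g * conj (χ g)) (fun g hg => by simp only [hout g hg, zero_mul])] at h1
    have h2 : ∀ m : N, χ ⟨(m : Γ), hNG m.2⟩ * conj (χ ⟨(m : Γ), hNG m.2⟩) =
        ((k : ℂ) / e) ^ 2 * (θ m * conj (θ m)) := by
      intro m
      have h3 : χ ⟨(m : Γ), hNG m.2⟩ = (k : ℂ) / e * θ m := by
        field_simp; linear_combination hin m
      rw [h3, map_mul, map_div₀, Complex.conj_natCast, Complex.conj_natCast]
      ring
    rw [Finset.sum_congr rfl (fun m _ => h2 m), ← Finset.mul_sum, sum_mul_conj_irr hθ, hkcard]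
      at h1
    have hNc : (Nat.card N : ℂ) ≠ 0 := Nat.cast_ne_zero.mpr Nat.card_pos.ne'
    push_cast at h1
    have hkc : (k : ℂ) ≠ 0 := Nat.cast_ne_zero.mpr hk0
    field_simp at h1
    have : (k : ℂ) = (e : ℂ) ^ 2 := by linear_combination h1
    exact_mod_cast this
  have hres : ∀ m : N, χ ⟨(m : Γ), hNG m.2⟩ = (e : ℂ) * θ m := fun m => by
    have := hin m
    rw [hek, Nat.cast_pow, sq, mul_assoc] at this
    exact mul_left_cancel₀ he0 this
  -- extend to the whole group
  obtain ⟨ψ, hψ, hψG⟩ := exists_extension_of_cyclic (N := G) hχ (fun y g => by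
    by_cases hg : (g : Γ) ∈ N
    · have h1 := hres ⟨(g : Γ), hg⟩
      have h2 := hres ⟨y * g * y⁻¹, hN.conj_mem (g : Γ) hg y⟩
      rw [hinv y ⟨(g : Γ), hg⟩] at h2
      exact h2.trans h1.symm
    · rw [hout g hg, hout _ fun h => hg (by simpa [mul_assoc] using hN.conj_mem _ h y⁻¹)])
    hcyc
  -- the complement
  obtain ⟨q, hq⟩ := hcyc.exists_generator
  obtain ⟨x, rfl⟩ := QuotientGroup.mk_surjective q
  have hxG : x ∉ G := fun h => by
    refine hGlt (eq_top_iff.mpr fun y _ => ?_)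
    obtain ⟨i, hi⟩ := Subgroup.mem_zpowers_iff.mp (hq (y : Γ ⧸ G))
    rw [(QuotientGroup.eq_one_iff x).mpr h, one_zpow] at hi
    exact (QuotientGroup.eq_one_iff y).mp hi.symm
  set H : Subgroup Γ := Subgroup.zpowers x ⊔ N with hH
  have hNH : N ≤ H := le_sup_right
  have hint : ∀ h ∈ H, h ∈ G → h ∈ N := by
    intro h hh hhG
    obtain ⟨a, ha, b, hb, rfl⟩ := Subgroup.mem_sup_of_normal_right.mp hh
    refine N.mul_mem (hfrob x hxG a ?_ ?_) hb
    · simpa using G.mul_mem hhG (G.inv_mem (hNG hb))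
    · obtain ⟨i, rfl⟩ := Subgroup.mem_zpowers_iff.mp ha
      rw [show x * x ^ i * x⁻¹ * (x ^ i)⁻¹ = 1 by group]
      exact N.one_mem
  have htop : H ⊔ G = ⊤ := by
    refine eq_top_iff.mpr fun y _ => ?_
    obtain ⟨i, hi⟩ := Subgroup.mem_zpowers_iff.mp (hq (y : Γ ⧸ G))
    rw [← QuotientGroup.mk_zpow, QuotientGroup.eq] at hi
    rw [show y = x ^ i * ((x ^ i)⁻¹ * y) by group]
    exact Subgroup.mul_mem_sup
      (Subgroup.mem_sup_left (Subgroup.zpow_mem _ (Subgroup.mem_zpowers x) i)) hi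
  have hidx : (N.subgroupOf H).index = n := by
    have e1 : N.subgroupOf H = G.subgroupOf H := by
      ext h
      exact ⟨fun hh => hNG hh, fun hh => hint _ h.2 hh⟩
    have e2 : G.relIndex H = G.relIndex (H ⊔ G) := (Subgroup.relIndex_sup_right H G).symm
    rw [e1]
    show G.relIndex H = n
    rw [e2, htop, Subgroup.relIndex_top_right]
  have hHcard : Nat.card H = n * Nat.card N := by
    rw [← hidx, ← Nat.card_congr (Subgroup.subgroupOfEquivOfLe hNH).toEquiv, mul_comm,
      Subgroup.card_mul_index]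
  have := Fintype.ofFinite H
  have := Fintype.ofFinite (N.subgroupOf H)
  -- the norm of the restriction
  set F : Γ → ℂ := fun y => ψ y * conj (ψ y) with hFdef
  have hFc : IsClassFunction Γ F := fun g h => by
    simp only [hFdef, isClassFunction_irr hψ g h]
  have hFtot : ∑ y : Γ, F y = (Nat.card Γ : ℂ) := sum_mul_conj_irr hψ
  have hGsum : ∑ g : G, F g = (Nat.card G : ℂ) := by
    simp only [hFdef, hψG]
    exact sum_mul_conj_irr hχ
  have hTF : ∑ y ∈ Finset.univ.filter (fun y : Γ => y ∉ G), F y =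
      ((n : ℂ) - 1) * (Nat.card G : ℂ) := by
    have h1 := sum_eq_subgroup_add G F
    rw [hFtot, hGsum, ← G.card_mul_index, ← hn] at h1
    push_cast at h1
    linear_combination -h1
  have hSset : ∀ h : Γ, (h ∈ H ∧ h ∉ G) ↔ (h ∈ H ∧ h ∉ N) := fun h =>
    ⟨fun ⟨a, b⟩ => ⟨a, fun c => b (hNG c)⟩, fun ⟨a, b⟩ => ⟨a, fun c => b (hint h a c)⟩⟩
  have hScard : (Finset.univ.filter (fun h : Γ => h ∈ H ∧ h ∉ G)).card =
      (n - 1) * Nat.card N := by
    rw [Finset.filter_congr (fun h _ => hSset h), Finset.filter_and_not,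
      Finset.card_sdiff, Finset.inter_eq_left.mpr (fun h hh => by
        simp only [Finset.mem_filter] at hh ⊢
        exact ⟨hh.1, hNH hh.2⟩)]
    rw [← Fintype.card_subtype, ← Fintype.card_subtype, ← Nat.card_eq_fintype_card,
      ← Nat.card_eq_fintype_card, hHcard, Nat.sub_one_mul]
  have hTcard : (Finset.univ.filter (fun y : Γ => y ∉ G)).card = (n - 1) * Nat.card G := by
    rw [Finset.filter_not, Finset.card_sdiff_of_subset (Finset.filter_subset _ _),
      Finset.card_univ, ← Fintype.card_subtype, ← Nat.card_eq_fintype_card,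
      ← Nat.card_eq_fintype_card, ← G.card_mul_index, ← hn, mul_comm, Nat.sub_one_mul]
  have hcount : Nat.card G * (Finset.univ.filter (fun h : Γ => h ∈ H ∧ h ∉ G)).card =
      Nat.card N * (Finset.univ.filter (fun y : Γ => y ∉ G)).card := by
    rw [hScard, hTcard]; ring
  have hSF := sum_conj_complement G N H hNH hint hfrob hcount hFc
  rw [hTF] at hSF
  have hGc : (Nat.card G : ℂ) ≠ 0 := Nat.cast_ne_zero.mpr Nat.card_pos.ne'
  set f : H → ℂ := fun h => ψ h with hf
  have hfchar : IsCharacter H f := isCharacter_restrict (isCharacter_of_irr hψ) H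
  have hfres : ∀ m : N, f ⟨(m : Γ), hNH m.2⟩ = (e : ℂ) * θ m := fun m =>
    (hψG ⟨(m : Γ), hNG m.2⟩).trans (hres m)
  have hff : (n : ℂ) * classInner f f = (e : ℂ) ^ 2 + n - 1 := by
    have h1 : ∑ h : H, f h * conj (f h) =
        (∑ m : N, f ⟨(m : Γ), hNH m.2⟩ * conj (f ⟨(m : Γ), hNH m.2⟩)) +
          ∑ h ∈ Finset.univ.filter (fun h : Γ => h ∈ H ∧ h ∉ G), F h := by
      have h2 : ∑ y ∈ Finset.univ.filter (fun y : Γ => y ∈ H), F y = ∑ h : H, f h * conj (f h) :=
        Finset.sum_subtype (p := (· ∈ H)) _ (fun y => by simp) F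
      rw [← h2, ← Finset.sum_filter_add_sum_filter_not (Finset.univ.filter (fun y : Γ => y ∈ H))
        (fun y : Γ => y ∈ G) F, Finset.filter_filter, Finset.filter_filter]
      congr 1
      rw [Finset.filter_congr (q := fun y : Γ => y ∈ N) (fun y _ =>
        ⟨fun ⟨a, b⟩ => hint y a b, fun hy => ⟨hNH hy, hNG hy⟩⟩)]
      exact Finset.sum_subtype (p := (· ∈ N)) _ (fun y => by simp) F
    have h3 : ∀ m : N, f ⟨(m : Γ), hNH m.2⟩ * conj (f ⟨(m : Γ), hNH m.2⟩) =
        (e : ℂ) ^ 2 * (θ m * conj (θ m)) := fun m => by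
      rw [hfres, map_mul, Complex.conj_natCast]; ring
    have h4 : ∑ h ∈ Finset.univ.filter (fun h : Γ => h ∈ H ∧ h ∉ G), F h =
        ((n : ℂ) - 1) * (Nat.card N : ℂ) := mul_left_cancel₀ hGc (by rw [← hSF]; ring)
    have hNc : (Nat.card N : ℂ) ≠ 0 := Nat.cast_ne_zero.mpr Nat.card_pos.ne'
    have hnc : (n : ℂ) ≠ 0 := Nat.cast_ne_zero.mpr (by omega)
    rw [classInner, h1, Finset.sum_congr rfl (fun m _ => h3 m), ← Finset.mul_sum,
      sum_mul_conj_irr hθ, h4, hHcard]
    push_cast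
    field_simp
    ring
  -- the decomposition of the restriction
  set N' := N.subgroupOf H with hN'
  set θ' : N' → ℂ := fun m => θ ⟨((m : H) : Γ), Subgroup.mem_subgroupOf.mp m.2⟩ with hθ'
  have hθ'irr : IsIrrCharacter N' θ' := isIrr_subgroupOf N hNH hθ
  have hθ'inv : ∀ (h : H) (m : N'),
      θ' ⟨h * m * h⁻¹, (inferInstance : N'.Normal).conj_mem _ m.2 h⟩ = θ' m :=
    fun h m => hinv (h : Γ) ⟨((m : H) : Γ), Subgroup.mem_subgroupOf.mp m.2⟩
  have hcomm : ∀ a b : H ⧸ N', a * b = b * a := by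
    intro a b
    obtain ⟨a, rfl⟩ := QuotientGroup.mk_surjective a
    obtain ⟨b, rfl⟩ := QuotientGroup.mk_surjective b
    rw [← QuotientGroup.mk_mul, ← QuotientGroup.mk_mul, QuotientGroup.eq,
      Subgroup.mem_subgroupOf]
    refine hint _ (SetLike.coe_mem _) ?_
    have hc' : (((a * b : H) : Γ) : Γ ⧸ G) = (((b * a : H) : Γ) : Γ ⧸ G) := by
      letI : CommGroup (Γ ⧸ G) := IsCyclic.commGroup
      simp only [Subgroup.coe_mul, QuotientGroup.mk_mul]
      exact mul_comm _ _
    rw [Subgroup.coe_mul, Subgroup.coe_inv]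
    exact QuotientGroup.eq.mp hc'
  have hHcyc : IsCyclic (H ⧸ N') := by
    have hle : N' ≤ ((QuotientGroup.mk' G).comp H.subtype).ker := fun h hh => by
      rw [MonoidHom.mem_ker]
      exact (QuotientGroup.eq_one_iff _).mpr (hNG hh)
    refine isCyclic_of_injective (QuotientGroup.lift N' _ hle) ?_
    rw [injective_iff_map_eq_one]
    intro a ha
    obtain ⟨a, rfl⟩ := QuotientGroup.mk_surjective a
    exact (QuotientGroup.eq_one_iff _).mpr (hint _ a.2 ((QuotientGroup.eq_one_iff _).mp ha))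
  obtain ⟨μ, hμ, hμres⟩ := exists_extension_of_cyclic (N := N') hθ'irr hθ'inv hHcyc
  have hμθ : (fun m : N' => μ m) = θ' := funext hμres
  have hover : ∀ η : IrrCharacter H, classInner (fun m : N' => (η : H → ℂ) m) θ' ≠ 0 →
      (fun m : N' => (η : H → ℂ) m) = θ' := by
    intro η hη
    obtain ⟨β, hβ, hβk, heq⟩ := (gallagher N' (isCharacter_of_irr hμ) (hμθ ▸ hθ'irr)).2.2 η η.2
      (by rw [hμθ]; exact hη)
    obtain ⟨β', hβ', hββ'⟩ := exists_quotient_irr N' hβ hβk
    have hb1 : β 1 = 1 := by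
      rw [hββ']
      exact degree_one_of_commutative hcomm hβ'
    funext m
    rw [heq, Pi.mul_apply, hβk m m.2, hb1, one_mul, hμres]
  -- coefficients
  obtain ⟨c, hfsum, hc, hcsq⟩ := classInner_self_eq_sum_sq (isGenChar_of_char hfchar)
  set T : Finset (IrrCharacter H) :=
    Finset.univ.filter (fun η => classInner (fun m : N' => (η : H → ℂ) m) θ' ≠ 0) with hT
  have hcnonneg : ∀ η, 0 ≤ c η := fun η => by
    obtain ⟨d, hd⟩ := classInner_char_nat hfchar (isCharacter_of_irr η.2)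
    rw [hc η] at hd
    have : c η = (d : ℤ) := by exact_mod_cast hd
    omega
  have hfres' : (fun m : N' => f m) = (e : ℂ) • θ' := funext fun m =>
    hfres ⟨((m : H) : Γ), Subgroup.mem_subgroupOf.mp m.2⟩
  have hzero : ∀ η, η ∉ T → c η = 0 := by
    intro η hη
    by_contra hne
    rw [hT, Finset.mem_filter, not_and, not_not] at hη
    have hη0 := hη (Finset.mem_univ η)
    have hηN := isCharacter_restrict (isCharacter_of_irr η.2) N'
    obtain ⟨φ, hφ, hφne⟩ := exists_constituent hηN (fun h => irr_ne_zero η.2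
      (show (fun m : N' => (η : H → ℂ) m) 1 = 0 by rw [h]; rfl))
    have hφθ : φ ≠ θ' := fun h => hφne (h ▸ hη0)
    have hsplit : (fun m : N' => f m) =
        ∑ ξ : IrrCharacter H, (c ξ : ℂ) • fun m : N' => (ξ : H → ℂ) m := by
      funext m
      rw [hfsum]
      simp
    have h0 : classInner (fun m : N' => f m) φ = 0 := by
      rw [hfres', classInner_smul_left, classInner_irr_ne hθ'irr hφ hφθ.symm, mul_zero]
    rw [hsplit, classInner_sum_left] at h0
    have hd : ∀ ξ : IrrCharacter H, ∃ d : ℕ,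
        classInner ((c ξ : ℂ) • fun m : N' => (ξ : H → ℂ) m) φ = (c ξ : ℂ) * d := fun ξ => by
      obtain ⟨d, hd⟩ := classInner_char_nat
        (isCharacter_restrict (isCharacter_of_irr ξ.2) N') (isCharacter_of_irr hφ)
      exact ⟨d, by rw [classInner_smul_left, hd]⟩
    choose d hd using hd
    rw [Finset.sum_congr rfl (fun ξ _ => hd ξ)] at h0
    have h0' : ∑ ξ : IrrCharacter H, c ξ * (d ξ : ℤ) = 0 := by exact_mod_cast h0
    have := (Finset.sum_eq_zero_iff_of_nonneg fun ξ _ =>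
      mul_nonneg (hcnonneg ξ) (Int.natCast_nonneg _)).mp h0' η (Finset.mem_univ η)
    have hdη : (d η : ℤ) = 0 := (mul_eq_zero.mp this).resolve_left hne
    have h5 := hd η
    rw [classInner_smul_left, Int.natCast_eq_zero.mp hdη, Nat.cast_zero, mul_zero] at h5
    exact hφne ((mul_eq_zero.mp h5).resolve_left (Int.cast_ne_zero.mpr hne))
  have hsumc : ∑ η ∈ T, c η = e := by
    have h1 : f 1 = ∑ η : IrrCharacter H, (c η : ℂ) * (η : H → ℂ) 1 := by
      rw [hfsum]; simp
    have h2 : f 1 = (e : ℂ) * θ' 1 := congrFun hfres' 1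
    rw [← Finset.sum_subset (Finset.subset_univ T) (fun η _ hη => by
      rw [hzero η hη, Int.cast_zero, zero_mul]),
      Finset.sum_congr rfl (g := fun η => (c η : ℂ) * θ' 1) (fun η hη => by
        rw [← congrFun (hover η (Finset.mem_filter.mp hη).2) 1]; rfl), ← Finset.sum_mul, h2] at h1
    have := mul_right_cancel₀ (irr_ne_zero hθ'irr) h1
    exact_mod_cast this.symm
  have hTcard' : T.card = n := by
    have hInd := isCharacter_indFun N' (isCharacter_of_irr hθ'irr)
    obtain ⟨a, -, ha, hasq⟩ := classInner_self_eq_sum_sq (isGenChar_of_char hInd)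
    rw [classInner_indFun_self_of_invariant N' hθ'irr (fun h => funext (hθ'inv h)), hidx] at hasq
    have hai : ∀ η : IrrCharacter H, a η = if η ∈ T then 1 else 0 := by
      intro η
      have h1 : classInner (indFun N' θ') (η : H → ℂ) = (a η : ℂ) := ha η
      rw [frobenius_reciprocity N' θ' (isClassFunction_irr η.2), ← classInner_comm] at h1
      by_cases hη : η ∈ T
      · rw [if_pos hη]
        rw [hover η (Finset.mem_filter.mp hη).2, classInner_irr_self hθ'irr, map_one] at h1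
        exact_mod_cast h1.symm
      · rw [if_neg hη]
        rw [hT, Finset.mem_filter, not_and, not_not] at hη
        rw [hη (Finset.mem_univ η), map_zero] at h1
        exact_mod_cast h1.symm
    simp only [hai, ite_pow, one_pow, ne_eq, OfNat.ofNat_ne_zero, not_false_eq_true, zero_pow,
      Finset.sum_boole, Finset.filter_mem_eq_inter, Finset.univ_inter] at hasq
    exact_mod_cast hasq.symm
  refine dvd_pred_or_succ T c hn2 hTcard' hsumc ?_
  have h1 : classInner f f = ((∑ η ∈ T, c η ^ 2 : ℤ) : ℂ) := by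
    rw [hcsq, ← Finset.sum_subset (Finset.subset_univ T) (fun η _ hη => by
      rw [hzero η hη, zero_pow two_ne_zero])]
  rw [h1] at hff
  exact_mod_cast hff

end CfsgLib.FullyRamified
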