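import Cfsg.Agent.Lib.FullyRamified.Sections

/-!
# Fully ramified sections: complements to Sylow subgroups of quotients
-/

namespace CfsgLib.FullyRamified

open Cfsg CfsgLib.CharTheory
open scoped ComplexConjugate

set_option linter.unusedVariables false
set_option linter.style.haveILetI false
set_option linter.unusedSectionVars false

universe u

/-- Over a normal subgroup with cyclic factor group the restriction of an irreducible character
is multiplicity free. -/
theorem mult_one_of_cyclic {D : Type u} [Group D] [Fintype D] (N : Subgroup D) [N.Normal]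
    [Fintype N] (hcyc : IsCyclic (D ⧸ N)) {η : D → ℂ} (hη : IsIrrCharacter D η) {ξ : N → ℂ}
    (hξ : IsIrrCharacter N ξ) (hc : classInner (fun n : N => η n) ξ ≠ 0) :
    classInner (fun n : N => η n) ξ = 1 := by
  classical
  set T := inertia N ξ with hT
  have hNT : N ≤ T := le_inertia N (isClassFunction_irr hξ)
  haveI := Fintype.ofFinite T
  haveI := Fintype.ofFinite (N.subgroupOf T)
  obtain ⟨ψ, hψ, hψc, hind⟩ := exists_clifford_pre N hξ hNT hT hη hc
  rw [← hind, (clifford_correspondence N hξ hNT hT hψ hψc).2]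
  letI := hcyc.commGroup
  have hab : ∀ x y : T, x * y * x⁻¹ * y⁻¹ ∈ N.subgroupOf T := by
    intro x y
    rw [Subgroup.mem_subgroupOf, ← QuotientGroup.eq_one_iff]
    simp only [Subgroup.coe_mul, Subgroup.coe_inv, QuotientGroup.mk_mul, QuotientGroup.mk_inv]
    rw [mul_comm (QuotientGroup.mk (x : D) : D ⧸ N) (QuotientGroup.mk (y : D)), mul_inv_cancel_right,
      mul_inv_cancel]
  haveI : IsCyclic (↥T ⧸ N.subgroupOf T) := by
    refine isCyclic_of_injective (QuotientGroup.map (N.subgroupOf T) N T.subtype (le_refl _)) ?_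
    rw [← MonoidHom.ker_eq_bot_iff, eq_bot_iff]
    intro x hx
    induction x using QuotientGroup.induction_on with
    | _ x =>
      have h1 : ((x : D) : D ⧸ N) = 1 := hx
      exact Subgroup.mem_bot.2 ((QuotientGroup.eq_one_iff x).2
        (Subgroup.mem_subgroupOf.2 ((QuotientGroup.eq_one_iff (x : D)).1 h1)))
  obtain ⟨χ0, hχ0, hres⟩ := exists_extension_of_cyclic (N := N.subgroupOf T)
    (isIrr_subgroupOf N hNT hξ) (fun t x => by
      exact congrFun ((mem_inertia N).1 t.2) ⟨((x : T) : D), x.2⟩) inferInstance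
  have hres' : IsIrrCharacter (N.subgroupOf T) (fun n : N.subgroupOf T => χ0 n) := by
    rw [funext hres]; exact isIrr_subgroupOf N hNT hξ
  obtain ⟨β, hβ, hk, e⟩ := (gallagher (N.subgroupOf T) (isCharacter_of_irr hχ0) hres').2.2 ψ hψ (by
    rw [funext hres, classInner_subgroupOf N hNT ψ ξ]; exact hψc)
  have hd := irr_degree_one_of_kernel_commutator (N.subgroupOf T) hab hβ hk
  have e2 : (fun n : N => ψ ⟨n, hNT n.2⟩) = ξ := by
    funext n
    have hn : (⟨(n : D), hNT n.2⟩ : T) ∈ N.subgroupOf T := n.2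
    rw [e, Pi.mul_apply, hk _ hn, hd, one_mul]
    exact hres ⟨_, hn⟩
  rw [e2, classInner_irr_self hξ]

variable {H : Type u} [Group H] [Fintype H] {Z : Subgroup H} {θ : Z → ℂ} {χ : H → ℂ} {e : ℕ}
variable {p : ℕ} [hp : Fact p.Prime]

/-- The data at a Sylow subgroup. -/
theorem exists_sylow_above (Z : Subgroup H) [Z.Normal] (K : Subgroup H) [K.Normal] (hZK : Z ≤ K)
    (p : ℕ) [Fact p.Prime] :
    ∃ (Q : Subgroup H) (k : ℕ), Z ≤ Q ∧ Z.relIndex Q = p ^ k ∧ ¬ p ∣ Q.index ∧
      Subgroup.normalizer ((Q ⊓ K : Subgroup H) : Set H) ⊔ K = ⊤ := by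
  let P : Sylow p (H ⧸ Z) := default
  set π := QuotientGroup.mk' Z
  have hsurj : Function.Surjective π := QuotientGroup.mk'_surjective Z
  set Q := (P : Subgroup (H ⧸ Z)).comap π with hQ
  haveI : (K.map π).Normal := Subgroup.Normal.map inferInstance π hsurj
  obtain ⟨k, hk⟩ := IsPGroup.iff_card.1 P.2
  have hker : π.ker = Z := QuotientGroup.ker_mk' Z
  have hZQ : Z ≤ Q := fun z hz => by
    rw [hQ, Subgroup.mem_comap, show π z = 1 from (QuotientGroup.eq_one_iff z).2 hz]
    exact one_mem _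
  have hidx : Q.index = (P : Subgroup (H ⧸ Z)).index :=
    Subgroup.index_comap_of_surjective _ hsurj
  refine ⟨Q, k, hZQ, ?_, hidx ▸ P.not_dvd_index, ?_⟩
  · have h1 := Subgroup.relIndex_mul_index hZQ
    rw [hidx] at h1
    have h2 : Z.index = Nat.card (H ⧸ Z) := rfl
    rw [h2, ← Subgroup.card_mul_index (P : Subgroup (H ⧸ Z)), hk] at h1
    exact Nat.eq_of_mul_eq_mul_right (Nat.pos_of_ne_zero Subgroup.index_ne_zero_of_finite) h1
  · have hF := Sylow.normalizer_sup_eq_top (CfsgLib.sylowInfNormal P (K.map π))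
    rw [CfsgLib.coe_sylowInfNormal, Subgroup.subgroupOf_map_subtype] at hF
    have h3 := congrArg (Subgroup.comap π) hF
    rw [← Subgroup.comap_sup_eq (f := π) _ _ hsurj, Subgroup.comap_top,
      Subgroup.comap_map_eq, hker, sup_eq_left.2 hZK,
      Subgroup.comap_normalizer_eq_of_surjective _ hsurj] at h3
    rw [← h3]
    congr 2
    rw [Subgroup.comap_inf, Subgroup.comap_map_eq, hker, sup_eq_left.2 hZK]

theorem factorization_index_eq (K Q : Subgroup H) [K.Normal] (hQ : ¬ p ∣ Q.index) :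
    ((Q ⊓ K).relIndex Q).factorization p = K.index.factorization p := by
  have h1 := Subgroup.relIndex_mul_index (inf_le_left : Q ⊓ K ≤ Q)
  have h2 := Subgroup.relIndex_mul_index (inf_le_right : Q ⊓ K ≤ K)
  rw [← h2] at h1
  have h3 : ¬ p ∣ (Q ⊓ K).relIndex K := by
    rw [Subgroup.inf_relIndex_right]
    exact fun h => hQ (h.trans (CfsgLib.relIndex_dvd_index_of_normal_top Q K))
  have h4 : ((Q ⊓ K).relIndex Q * Q.index).factorization p =
      ((Q ⊓ K).relIndex K * K.index).factorization p := by rw [h1]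
  rw [Nat.factorization_mul (by exact Subgroup.index_ne_zero_of_finite) (by exact Subgroup.index_ne_zero_of_finite),
    Nat.factorization_mul (by exact Subgroup.index_ne_zero_of_finite) (by exact Subgroup.index_ne_zero_of_finite),
    Finsupp.add_apply, Finsupp.add_apply, Nat.factorization_eq_zero_of_not_dvd hQ,
    Nat.factorization_eq_zero_of_not_dvd h3, add_zero, zero_add] at h4
  exact h4

/-- The isomorphism between two readings of `Q ⊓ K`. -/
def infEquiv (Q K : Subgroup H) : K.subgroupOf Q ≃* (Q ⊓ K : Subgroup H) where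
  toFun x := ⟨((x : Q) : H), ⟨(x : Q).2, x.2⟩⟩
  invFun y := ⟨⟨(y : H), y.2.1⟩, y.2.2⟩
  left_inv x := rfl
  right_inv y := rfl
  map_mul' x y := rfl

theorem conj_mem_inf {Q K : Subgroup H} {n : H}
    (hn : n ∈ Subgroup.normalizer ((Q ⊓ K : Subgroup H) : Set H)) (x : K.subgroupOf Q) :
    n * ((x : Q) : H) * n⁻¹ ∈ Q ⊓ K :=
  ((Subgroup.mem_normalizer_iff).1 hn _).1 ⟨(x : Q).2, Subgroup.mem_subgroupOf.1 x.2⟩

theorem inv_conj_mem_inf {Q K : Subgroup H} {n : H}
    (hn : n ∈ Subgroup.normalizer ((Q ⊓ K : Subgroup H) : Set H)) (x : K.subgroupOf Q) :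
    n⁻¹ * ((x : Q) : H) * n ∈ Q ⊓ K := by
  have h := conj_mem_inf (inv_mem hn) x
  simpa using h

/-- The conjugation by a normalizing element. -/
noncomputable def conjInf {Q K : Subgroup H} {n : H}
    (hn : n ∈ Subgroup.normalizer ((Q ⊓ K : Subgroup H) : Set H)) :
    K.subgroupOf Q ≃* K.subgroupOf Q where
  toFun x := ⟨⟨n * ((x : Q) : H) * n⁻¹, (conj_mem_inf hn x).1⟩, (conj_mem_inf hn x).2⟩
  invFun x := ⟨⟨n⁻¹ * ((x : Q) : H) * n, (inv_conj_mem_inf hn x).1⟩, (inv_conj_mem_inf hn x).2⟩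
  left_inv x := Subtype.ext (Subtype.ext (by simp [mul_assoc]))
  right_inv x := Subtype.ext (Subtype.ext (by simp [mul_assoc]))
  map_mul' x y := Subtype.ext (Subtype.ext (by simp [mul_assoc]))

/-- The elements of the normalizer fixing a function on `Q ⊓ K`. -/
def stabFn (Q K : Subgroup H) (ξ : K.subgroupOf Q → ℂ) : Subgroup H where
  carrier := {n | n ∈ Subgroup.normalizer ((Q ⊓ K : Subgroup H) : Set H) ∧
    ∀ x y : K.subgroupOf Q, ((y : Q) : H) = n * ((x : Q) : H) * n⁻¹ → ξ y = ξ x}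
  one_mem' := ⟨one_mem _, fun x y h => by
    rw [show y = x from Subtype.ext (Subtype.ext (by simpa using h))]⟩
  mul_mem' := fun {a b} ha hb => ⟨mul_mem ha.1 hb.1, fun x z h => by
    rw [ha.2 (conjInf hb.1 x) z (by rw [h]; show _ = a * (b * ((x : Q) : H) * b⁻¹) * a⁻¹; group),
      hb.2 x (conjInf hb.1 x) rfl]⟩
  inv_mem' := fun {a} ha => ⟨inv_mem ha.1, fun x y h => (ha.2 y x (by rw [h]; group)).symm⟩

/-- If the constituents on `Q ⊓ K` have multiplicity one, the quotient by `K` has a subgroup of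
index the full `p`-part. -/
theorem Ramified.exists_complement (R : Ramified Z θ χ e) [Fintype Z] (K : Subgroup H) [K.Normal]
    (hZK : Z ≤ K) {Q : Subgroup H} [Fintype Q] (hZQ : Z ≤ Q) {k : ℕ} (hk : Z.relIndex Q = p ^ k)
    (hQ : ¬ p ∣ Q.index) (hsup : Subgroup.normalizer ((Q ⊓ K : Subgroup H) : Set H) ⊔ K = ⊤)
    (hmult : ∀ (η : Q → ℂ) (b e' : ℕ), IsIrrCharacter Q η → e = p ^ b * e' → ¬ p ∣ e' →
      resFn Q χ = (e' : ℂ) • η → resSub hZQ η = ((p ^ b : ℕ) : ℂ) • θ →
      ∀ [Fintype (K.subgroupOf Q)] (ξ : K.subgroupOf Q → ℂ),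
      IsIrrCharacter (K.subgroupOf Q) ξ →
      classInner (fun n : K.subgroupOf Q => η n) ξ ≠ 0 →
      classInner (fun n : K.subgroupOf Q => η n) (fun n : K.subgroupOf Q => η n) =
        ((Q ⊓ K).relIndex Q : ℂ) →
      classInner (fun n : K.subgroupOf Q => η n) ξ = 1) :
    ∃ M : Subgroup (H ⧸ K), M.index = p ^ K.index.factorization p := by
  classical
  obtain ⟨η, b, e', hη, hkb, he', hne, hres, hresZ⟩ := R.sylow hZQ hk hQ
  haveI := Fintype.ofFinite (K.subgroupOf Q)
  haveI := Fintype.ofFinite (Q ⊓ K : Subgroup H)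
  have he'0 : (e' : ℂ) ≠ 0 := Nat.cast_ne_zero.2 fun h => hne (h ▸ dvd_zero p)
  have hresx : ∀ x : Q, χ x = (e' : ℂ) * η x := fun x => congrFun hres x
  set ηr : K.subgroupOf Q → ℂ := fun x => η x with hηr
  have hηrc : IsCharacter _ ηr := isCharacter_restrict (isCharacter_of_irr hη) (K.subgroupOf Q)
  obtain ⟨ξ, hξ, hc⟩ := exists_constituent hηrc fun h0 => irr_ne_zero hη (congrFun h0 1)
  -- the orbit has the full length
  set pa := (Q ⊓ K).relIndex Q with hpa
  have hnorm : classInner ηr ηr = (pa : ℂ) := by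
    have hZI : Z ≤ Q ⊓ K := le_inf hZQ hZK
    have h1 := R.inner_self hZI
    have h2 : classInner (resFn (Q ⊓ K) χ) (resFn (Q ⊓ K) χ) = (e' : ℂ) * e' * classInner ηr ηr := by
      rw [← classInner_equiv (infEquiv Q K),
        show (fun x => resFn (Q ⊓ K) χ (infEquiv Q K x)) = (e' : ℂ) • ηr from
        funext fun x => hresx x]
      rw [classInner_smul_left, classInner_smul_right, Complex.conj_natCast, mul_assoc]
    rw [h2] at h1
    have h3 : Z.relIndex (Q ⊓ K) * pa = p ^ k := by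
      rw [hpa, Subgroup.relIndex_mul_relIndex _ _ _ hZI inf_le_left, hk]
    have h4 : (p : ℂ) ^ k = (Z.relIndex (Q ⊓ K) : ℂ) * pa := by exact_mod_cast h3.symm
    have hz : (Z.relIndex (Q ⊓ K) : ℂ) ≠ 0 := Nat.cast_ne_zero.2 Subgroup.index_ne_zero_of_finite
    rw [he', Nat.cast_mul, Nat.cast_pow, mul_pow, ← pow_mul, mul_comm b 2, ← hkb, h4] at h1
    refine mul_left_cancel₀ (mul_ne_zero (mul_ne_zero he'0 he'0) hz) ?_
    linear_combination h1
  have hf := hmult η b e' hη he' hne hres hresZ ξ hξ hc hnorm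
  have hclif : ηr = ∑ ψ ∈ conjOrbit (K.subgroupOf Q) ξ, ψ := by
    have := clifford (K.subgroupOf Q) hη hξ hc
    rw [hf, one_smul] at this
    exact this
  have hidx : (inertia (K.subgroupOf Q) ξ).index = pa := by
    have h1 : classInner ηr ηr = ((conjOrbit (K.subgroupOf Q) ξ).card : ℂ) := by
      conv_lhs => arg 2; rw [hclif]
      rw [classInner_sum_right, ← nsmul_one (conjOrbit (K.subgroupOf Q) ξ).card, ← Finset.sum_const]
      refine Finset.sum_congr rfl fun ψ hψ => ?_
      obtain ⟨g, rfl⟩ := (mem_conjOrbit _).1 hψ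
      rw [hηr, classInner_res_conjNormFun (K.subgroupOf Q) g (isClassFunction_irr hη)]
      exact hf
    rw [hnorm, card_conjOrbit] at h1
    exact_mod_cast h1.symm
  -- the stabilizer
  set N := Subgroup.normalizer ((Q ⊓ K : Subgroup H) : Set H) with hN
  set S := stabFn Q K ξ with hS
  have hQN : Q ≤ N := by
    intro q hq
    rw [hN, Subgroup.mem_normalizer_iff]
    intro x
    constructor
    · exact fun hx => ⟨Q.mul_mem (Q.mul_mem hq hx.1) (Q.inv_mem hq),
        Subgroup.Normal.conj_mem inferInstance x hx.2 q⟩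
    · intro hx
      have e : x = q⁻¹ * (q * x * q⁻¹) * q := by group
      rw [e]
      exact ⟨Q.mul_mem (Q.mul_mem (Q.inv_mem hq) hx.1) hq,
        by simpa using Subgroup.Normal.conj_mem (H := K) inferInstance _ hx.2 q⁻¹⟩
  have hSN : S ≤ N := fun n hn => hn.1
  have hSQ : S.subgroupOf Q = inertia (K.subgroupOf Q) ξ := by
    ext q
    rw [Subgroup.mem_subgroupOf, mem_inertia]
    constructor
    · intro h
      funext x
      exact h.2 x _ rfl
    · intro h
      refine ⟨hQN q.2, fun x y hy => ?_⟩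
      rw [show y = (⟨q * (x : Q) * q⁻¹, Subgroup.Normal.conj_mem inferInstance _ x.2 q⟩ :
        K.subgroupOf Q) from Subtype.ext (Subtype.ext hy)]
      exact congrFun h x
  have hcover : ∀ n ∈ N, ∃ q ∈ Q, n * q⁻¹ ∈ S := by
    intro n hn
    have hξ' : IsIrrCharacter _ (fun x => ξ (conjInf hn x)) :=
      isIrrCharacter_comp_surjective hξ (conjInf hn).toMonoidHom (conjInf hn).surjective
    have hc' : classInner ηr (fun x => ξ (conjInf hn x)) ≠ 0 := by
      have hinv : (fun x => ηr (conjInf hn x)) = ηr := by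
        funext x
        have h1 := hresx ((conjInf hn x : K.subgroupOf Q) : Q)
        have h2 := hresx (x : Q)
        have h3 : χ (n * ((x : Q) : H) * n⁻¹) = χ ((x : Q) : H) :=
          isClassFunction_irr R.irrTop _ n
        exact mul_left_cancel₀ he'0 (h1.symm.trans (h3.trans h2))
      rw [← hinv, classInner_equiv (conjInf hn) ηr ξ]
      exact hc
    obtain ⟨q, hq⟩ := exists_conj_of_constituents (K.subgroupOf Q) hη hξ hξ' hc hc'
    refine ⟨(q : H), q.2, mul_mem hn (inv_mem (hQN q.2)), fun x y hy => ?_⟩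
    have hx' : q⁻¹ * (x : Q) * q⁻¹⁻¹ ∈ K.subgroupOf Q :=
      Subgroup.Normal.conj_mem inferInstance _ x.2 q⁻¹
    have := congrFun hq ⟨q⁻¹ * (x : Q) * q⁻¹⁻¹, hx'⟩
    rw [conjNormFun] at this
    refine Eq.trans ?_ (this.symm.trans (congrArg ξ (Subtype.ext (by group))))
    refine congrArg ξ (Subtype.ext (Subtype.ext ?_))
    rw [hy]
    show n * (q : H)⁻¹ * ((x : Q) : H) * (n * (q : H)⁻¹)⁻¹ =
      n * ((q : H)⁻¹ * ((x : Q) : H) * ((q : H)⁻¹)⁻¹) * n⁻¹
    group
  have hSN_idx : S.relIndex N = pa := by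
    rw [← hidx, ← hSQ]
    let f := Subgroup.quotientSubgroupOfEmbeddingOfLE S hQN
    refine (Nat.card_eq_of_bijective f ⟨f.injective, fun z => ?_⟩).symm
    induction z using QuotientGroup.induction_on with
    | _ n =>
      obtain ⟨q, hq, hs⟩ := hcover _ (inv_mem n.2)
      refine ⟨QuotientGroup.mk ⟨q⁻¹, inv_mem hq⟩, ?_⟩
      rw [Subgroup.quotientSubgroupOfEmbeddingOfLE_apply_mk, QuotientGroup.eq,
        Subgroup.mem_subgroupOf]
      show (q⁻¹)⁻¹ * (n : H) ∈ S
      have := inv_mem hs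
      simpa using this
  have hpp : pa = p ^ K.index.factorization p := by
    have h1 : pa ∣ p ^ k := hk ▸ Dvd.intro_left _
      (Subgroup.relIndex_mul_relIndex _ _ _ (le_inf hZQ hZK) inf_le_left)
    obtain ⟨a, -, ha⟩ := (Nat.dvd_prime_pow hp.out).1 h1
    have h2 := factorization_index_eq (p := p) K Q hQ
    rw [← hpa, ha, Nat.Prime.factorization_pow hp.out, Finsupp.single_eq_same] at h2
    rw [ha, h2]
  have hNK : N ⊓ K ≤ S := by
    rw [← Subgroup.relIndex_eq_one]
    have hQS : Q ⊓ K ≤ S := fun x hx => by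
      refine ⟨hQN hx.1, fun a c hc => ?_⟩
      have := isClassFunction_irr hξ a ⟨⟨x, hx.1⟩, hx.2⟩
      rw [show c = (⟨⟨x, hx.1⟩, hx.2⟩ : K.subgroupOf Q) * a * (⟨⟨x, hx.1⟩, hx.2⟩)⁻¹ from
        Subtype.ext (Subtype.ext hc)]
      exact this
    have h1 : ¬ p ∣ S.relIndex (N ⊓ K) := by
      intro h
      have hle : Q ⊓ K ≤ N ⊓ K := le_inf (inf_le_left.trans hQN) inf_le_right
      have h2 := h.trans (Subgroup.relIndex_dvd_of_le_left (N ⊓ K) hQS)
      have h3 := h2.trans (Dvd.intro _ (Subgroup.relIndex_mul_relIndex _ _ K hle inf_le_right))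
      rw [Subgroup.inf_relIndex_right] at h3
      exact hQ (h3.trans (CfsgLib.relIndex_dvd_index_of_normal_top Q K))
    have h2 : S.relIndex (N ⊓ K) ∣ p ^ K.index.factorization p := by
      rw [← hpp, ← hSN_idx]
      haveI : ((N ⊓ K).subgroupOf N).Normal := by
        rw [Subgroup.inf_subgroupOf_left]; infer_instance
      have := CfsgLib.relIndex_dvd_index_of_normal_top (S.subgroupOf N) ((N ⊓ K).subgroupOf N)
      rw [Subgroup.relIndex_subgroupOf (inf_le_left : N ⊓ K ≤ N)] at this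
      exact this
    obtain ⟨i, -, hi⟩ := (Nat.dvd_prime_pow hp.out).1 h2
    rcases i with _ | i
    · rw [hi, pow_zero]
    · exact absurd (hi ▸ dvd_pow_self p (Nat.succ_ne_zero i)) h1
  let φ : N →* H ⧸ K := (QuotientGroup.mk' K).comp N.subtype
  have hφ : Function.Surjective φ := by
    intro z
    induction z using QuotientGroup.induction_on with
    | _ h =>
      obtain ⟨n, hn, k', hk', rfl⟩ := Subgroup.mem_sup_of_normal_right.1
        (show h ∈ N ⊔ K by rw [hsup]; trivial)
      refine ⟨⟨n, hn⟩, ?_⟩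
      show (n : H ⧸ K) = _
      rw [QuotientGroup.mk_mul, (QuotientGroup.eq_one_iff k').2 hk', mul_one]
  refine ⟨(S.subgroupOf N).map φ, ?_⟩
  rw [Subgroup.index_map_eq _ hφ, ← hpp, ← hSN_idx, Subgroup.relIndex]
  intro n hn
  rw [MonoidHom.mem_ker] at hn
  exact Subgroup.mem_subgroupOf.2 (hNK ⟨n.2, (QuotientGroup.eq_one_iff (n : H)).1 hn⟩)

end CfsgLib.FullyRamified
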