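import Cfsg.Agent.Lib.FullyRamified.Complement

/-!
# Fully ramified sections: cyclic and induced quotients
-/

namespace CfsgLib.FullyRamified

open Cfsg CfsgLib.CharTheory
open scoped ComplexConjugate

set_option linter.unusedVariables false
set_option linter.style.haveILetI false
set_option linter.unusedSectionVars false

universe u

variable {H : Type u} [Group H] [Fintype H] {Z : Subgroup H} {θ : Z → ℂ} {χ : H → ℂ} {e : ℕ}
variable {p : ℕ} [hp : Fact p.Prime]

/-- The section `Q / (Q ⊓ K)` is cyclic when a Sylow subgroup of `H / K` is. -/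
theorem cyclic_section (K : Subgroup H) [K.Normal] {Q : Subgroup H} (hZK : Z ≤ K) (hZQ : Z ≤ Q)
    {k : ℕ} (hk : Z.relIndex Q = p ^ k) (P : Sylow p (H ⧸ K)) (hcyc : IsCyclic P) :
    IsCyclic (↥Q ⧸ K.subgroupOf Q) := by
  let ψ : ↥Q ⧸ K.subgroupOf Q →* H ⧸ K := QuotientGroup.map _ K Q.subtype (le_refl _)
  have hinj : Function.Injective ψ := by
    rw [← MonoidHom.ker_eq_bot_iff, eq_bot_iff]
    intro x hx
    induction x using QuotientGroup.induction_on with
    | _ x =>
      have h1 : ((x : H) : H ⧸ K) = 1 := hx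
      exact Subgroup.mem_bot.2 ((QuotientGroup.eq_one_iff x).2
        (Subgroup.mem_subgroupOf.2 ((QuotientGroup.eq_one_iff (x : H)).1 h1)))
  have hcard : ∃ a, Nat.card (↥Q ⧸ K.subgroupOf Q) = p ^ a := by
    have h1 : (Q ⊓ K).relIndex Q ∣ p ^ k := hk ▸ Dvd.intro_left _
      (Subgroup.relIndex_mul_relIndex _ _ _ (le_inf hZQ hZK) inf_le_left)
    rw [Subgroup.inf_relIndex_left] at h1
    obtain ⟨a, -, ha⟩ := (Nat.dvd_prime_pow hp.out).1 h1
    exact ⟨a, ha⟩
  have hpg : IsPGroup p ψ.range :=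
    (IsPGroup.iff_card.2 hcard).of_surjective ψ.rangeRestrict ψ.rangeRestrict_surjective
  obtain ⟨R, hR⟩ := hpg.exists_le_sylow
  haveI : IsCyclic R := isCyclic_of_surjective _ (P.equiv R).surjective
  exact isCyclic_of_injective ((Subgroup.inclusion hR).comp ψ.rangeRestrict)
    ((Subgroup.inclusion_injective hR).comp fun a b h => hinj (congrArg Subtype.val h))

/-- Induced fully ramified characters: every prime has a complement in the quotient. -/
theorem Ramified.mult_one_of_induced (R : Ramified Z θ χ e) [Fintype Z] (K : Subgroup H) [K.Normal]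
    [Fintype K] (hZK : Z ≤ K) {φ : K → ℂ} (hφ : IsCharacter K φ) (hind : indFun K φ = χ)
    {Q : Subgroup H} [Fintype Q] (hZQ : Z ≤ Q) (hQ : ¬ p ∣ Q.index) {k : ℕ}
    (hk : Z.relIndex Q = p ^ k)
    (η : Q → ℂ) (b e' : ℕ) (hη : IsIrrCharacter Q η) (he' : e = p ^ b * e') (hne : ¬ p ∣ e')
    (hres : resFn Q χ = (e' : ℂ) • η) (hresZ : resSub hZQ η = ((p ^ b : ℕ) : ℂ) • θ)
    [Fintype (K.subgroupOf Q)] (ξ : K.subgroupOf Q → ℂ)
    (hξ : IsIrrCharacter (K.subgroupOf Q) ξ)
    (hc : classInner (fun n : K.subgroupOf Q => η n) ξ ≠ 0)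
    (hnorm : classInner (fun n : K.subgroupOf Q => η n) (fun n : K.subgroupOf Q => η n) =
        ((Q ⊓ K).relIndex Q : ℂ)) :
    classInner (fun n : K.subgroupOf Q => η n) ξ = 1 := by
  classical
  haveI := Fintype.ofFinite (Q ⊓ K : Subgroup H)
  set ηr : K.subgroupOf Q → ℂ := fun x => η x with hηr
  have hηrc : IsCharacter _ ηr := isCharacter_restrict (isCharacter_of_irr hη) (K.subgroupOf Q)
  have hresx : ∀ x : Q, χ x = (e' : ℂ) * η x := fun x => congrFun hres x
  have he'0 : (e' : ℂ) ≠ 0 := Nat.cast_ne_zero.2 fun h => hne (h ▸ dvd_zero p)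
  obtain ⟨f, hf⟩ := classInner_char_nat hηrc (isCharacter_of_irr hξ)
  -- the degree of the constituent
  obtain ⟨g, hg⟩ : ∃ g : ℕ, ξ 1 = (g : ℂ) * θ 1 := by
    have hξ' : IsIrrCharacter _ (fun x => ξ ((infEquiv Q K).symm x)) :=
      isIrrCharacter_comp_surjective hξ (infEquiv Q K).symm.toMonoidHom (infEquiv Q K).symm.surjective
    obtain ⟨g, -, hg⟩ := R.res_constituent (le_inf hZQ hZK) hξ' (by
      rw [← classInner_equiv (infEquiv Q K)]
      simp only [MulEquiv.symm_apply_apply]
      rw [show (fun x => resFn (Q ⊓ K) χ (infEquiv Q K x)) = (e' : ℂ) • ηr from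
        funext fun x => hresx x, classInner_smul_left]
      exact mul_ne_zero he'0 hc)
    refine ⟨g, ?_⟩
    have h1 := congrFun hg 1
    simp only [resSub, Pi.smul_apply, smul_eq_mul, OneMemClass.coe_one] at h1
    rw [← h1]
    exact congrArg ξ (map_one (infEquiv Q K).symm).symm
  set c := (inertia (K.subgroupOf Q) ξ).index with hcdef
  have hθ1 : θ 1 ≠ 0 := irr_ne_zero R.irr
  have hfc : f * c * g = p ^ b := by
    have h1 : η 1 = (f : ℂ) * c * ξ 1 := by
      rw [clifford_degree (K.subgroupOf Q) hη hξ hc, hf]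
    have h2 := congrFun hresZ 1
    simp only [resSub, Pi.smul_apply, smul_eq_mul, OneMemClass.coe_one] at h2
    rw [show (⟨(1 : H), hZQ Z.one_mem⟩ : Q) = 1 from rfl, h1, hg, ← mul_assoc] at h2
    exact_mod_cast mul_right_cancel₀ hθ1 h2
  have hf2c : f * f * c = (Q ⊓ K).relIndex Q := by
    have h1 : classInner ηr ηr = (f : ℂ) * f * c := by
      conv_lhs => arg 2; rw [show ηr = (f : ℂ) • ∑ ψ ∈ conjOrbit (K.subgroupOf Q) ξ, ψ by
        rw [hηr, clifford (K.subgroupOf Q) hη hξ hc, hf]]
      rw [classInner_smul_right, Complex.conj_natCast, classInner_sum_right,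
        Finset.sum_congr rfl (g := fun _ => (f : ℂ)) fun ψ hψ => by
          obtain ⟨q, rfl⟩ := (mem_conjOrbit _).1 hψ
          rw [hηr, classInner_res_conjNormFun (K.subgroupOf Q) q (isClassFunction_irr hη)]
          exact hf,
        Finset.sum_const, nsmul_eq_mul, hcdef, card_conjOrbit]
      ring
    rw [hnorm] at h1
    exact_mod_cast h1.symm
  -- an irreducible of `K` inducing to `χ`
  have hX : IsCharacter K (resFn K χ) := isCharacter_restrict (isCharacter_of_irr R.irrTop) K
  obtain ⟨ψ, hψφ, hψc⟩ : ∃ ψ : IrrCharacter K, classInner φ (ψ : K → ℂ) ≠ 0 ∧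
      classInner (resFn K χ) (ψ : K → ℂ) ≠ 0 := by
    by_contra hno
    push Not at hno
    have h1 := frobenius_reciprocity K φ (isClassFunction_irr R.irrTop)
    rw [hind, classInner_irr_self R.irrTop, classInner_eq_sum_irr (isClassFunction_char hφ),
      Finset.sum_eq_zero] at h1
    · exact one_ne_zero h1
    · intro ψ _
      by_cases h : classInner φ (ψ : K → ℂ) = 0
      · rw [h, zero_mul]
      · have h2 : classInner (ψ : K → ℂ) (resFn K χ) = 0 := by
          rw [← classInner_comm, hno ψ h, map_zero]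
        exact mul_eq_zero_of_right _ h2
  obtain ⟨d, hd⟩ := char_one_eq_natCast (isCharacter_of_irr ψ.2)
  have hn : (K.index : ℂ) * (ψ : K → ℂ) 1 = χ 1 := by
    obtain ⟨dφ, hdφ⟩ := char_one_eq_natCast hφ
    obtain ⟨dr, hdr⟩ := char_one_eq_natCast (isCharacter_sub_irr hφ ψ.2 hψφ)
    have hc2 : classInner (indFun K (ψ : K → ℂ)) χ ≠ 0 := by
      rw [frobenius_reciprocity K _ (isClassFunction_irr R.irrTop), ← classInner_comm]
      exact (map_ne_zero _).2 hψc
    obtain ⟨dt, hdt⟩ := char_one_eq_natCast (isCharacter_sub_irr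
      (isCharacter_indFun K (isCharacter_of_irr ψ.2)) R.irrTop hc2)
    have h1 : dr + d = dφ := by
      have := hdr
      rw [Pi.sub_apply, hdφ, hd, sub_eq_iff_eq_add] at this
      exact_mod_cast this.symm
    rw [Pi.sub_apply, indFun_apply_one, hd, ← hind, indFun_apply_one, hdφ, sub_eq_iff_eq_add] at hdt
    have h2 : K.index * d = dt + K.index * dφ := by exact_mod_cast hdt
    have h3 : d = dφ := by
      have hpos : 0 < K.index := Nat.pos_of_ne_zero Subgroup.index_ne_zero_of_finite
      rcases Nat.lt_or_ge d dφ with hlt | hge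
      · have := Nat.mul_lt_mul_of_pos_left hlt hpos
        omega
      · omega
    rw [← hind, indFun_apply_one, hd, hdφ, h3]
  -- its degree is a multiple of the constituent's
  obtain ⟨Mu, hMu⟩ : ∃ Mu : ℕ, (ψ : K → ℂ) 1 = (Mu : ℂ) * ξ 1 := by
    let ι : K.subgroupOf Q →* K :=
      { toFun := fun x => ⟨((x : Q) : H), x.2⟩, map_one' := rfl, map_mul' := fun _ _ => rfl }
    have hψr : IsCharacter _ (fun x => (ψ : K → ℂ) (ι x)) := isCharacter_comp (isCharacter_of_irr ψ.2) ι
    choose m hm using fun ζ : IrrCharacter (K.subgroupOf Q) =>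
      classInner_char_nat hψr (isCharacter_of_irr ζ.2)
    refine ⟨∑ ζ, m ζ, ?_⟩
    have h1 := congrFun (eq_sum_irr (isClassFunction_char hψr)) 1
    simp only [map_one, Finset.sum_apply, Pi.smul_apply, smul_eq_mul] at h1
    rw [h1, Nat.cast_sum, Finset.sum_mul]
    refine Finset.sum_congr rfl fun ζ _ => ?_
    rw [hm]
    rcases Nat.eq_zero_or_pos (m ζ) with h0 | h0
    · rw [h0, Nat.cast_zero, zero_mul, zero_mul]
    have h2 := inner_comp_ne_zero ι hX ψ.2 hψc ζ.2 (by rw [hm]; exact_mod_cast h0.ne')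
    rw [show (fun x => resFn K χ (ι x)) = (e' : ℂ) • ηr from funext fun x => hresx x,
      classInner_smul_left] at h2
    obtain ⟨q, hq⟩ := exists_conj_of_constituents (K.subgroupOf Q) hη hξ ζ.2 hc
      (right_ne_zero_of_mul h2)
    rw [← hq, conjNormFun_apply_one]
  have hχ1 : χ 1 = (e : ℂ) * θ 1 := R.res 1
  have he2 : e = K.index * Mu * g := by
    rw [hχ1, hMu, hg, ← mul_assoc, ← mul_assoc] at hn
    exact_mod_cast (mul_right_cancel₀ hθ1 hn).symm
  -- compare the parts
  obtain ⟨i, -, hgi⟩ := (Nat.dvd_prime_pow hp.out).1 (Dvd.intro_left _ hfc : g ∣ p ^ b)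
  have hdvd : (Q ⊓ K).relIndex Q * g ∣ p ^ b := by
    obtain ⟨a, -, ha⟩ := (Nat.dvd_prime_pow hp.out).1 (hk ▸ Dvd.intro_left _
      (Subgroup.relIndex_mul_relIndex _ _ _ (le_inf hZQ hZK) inf_le_left))
    have h2 := factorization_index_eq (p := p) K Q hQ
    rw [ha, Nat.Prime.factorization_pow hp.out, Finsupp.single_eq_same] at h2
    have h3 : (Q ⊓ K).relIndex Q * g ∣ p ^ b * e' := by
      rw [← he', he2, ha, h2]
      exact Nat.mul_dvd_mul (dvd_mul_of_dvd_left (Nat.ordProj_dvd _ _) _) dvd_rfl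
    rw [ha, hgi, ← pow_add] at h3 ⊢
    exact (Nat.Coprime.pow_left _ ((Nat.Prime.coprime_iff_not_dvd hp.out).2 hne)).dvd_of_dvd_mul_right h3
  rw [← hfc, ← hf2c] at hdvd
  have hpos : 0 < f * c * g := hfc ▸ pow_pos hp.out.pos b
  have h4 : f * (f * c * g) ∣ 1 * (f * c * g) := by
    rw [one_mul]
    calc f * (f * c * g) = f * f * c * g := by ring
      _ ∣ _ := hdvd
  have h5 := Nat.eq_one_of_dvd_one (Nat.dvd_of_mul_dvd_mul_right hpos h4)
  rw [hf, h5, Nat.cast_one]

/-- Nothing else lies over the character below. -/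
theorem Ramified.inner_eq_zero (R : Ramified Z θ χ e) [Fintype Z] {ξ : H → ℂ}
    (hξ : IsIrrCharacter H ξ) (hne : ξ ≠ χ) : classInner θ (fun z : Z => ξ z) = 0 := by
  haveI := Fintype.ofFinite (⊤ : Subgroup H)
  have h := R.inner_res (L := ⊤) le_top (fun l => ξ l)
  rw [show classInner (resFn (⊤ : Subgroup H) χ) (fun l : (⊤ : Subgroup H) => ξ l) = classInner χ ξ from
    classInner_equiv Subgroup.topEquiv χ ξ, classInner_irr_ne R.irrTop hξ (Ne.symm hne), zero_mul] at h
  exact (mul_eq_zero.1 h.symm).resolve_left (Nat.cast_ne_zero.2 R.e_ne_zero)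

/-- No self-centralizing cyclic subgroup in a nontrivial fully ramified section. -/
theorem Ramified.centralizer_ne (R : Ramified Z θ χ e) [Z.Normal] [Fintype Z] (hZ : Z ≠ ⊤)
    (C : Subgroup (H ⧸ Z)) (hC : IsCyclic C) :
    Subgroup.centralizer (C : Set (H ⧸ Z)) ≠ C := by
  classical
  intro hcc
  obtain ⟨⟨c, hcC⟩, hgen⟩ := hC.exists_generator
  obtain ⟨x, rfl⟩ := QuotientGroup.mk_surjective c
  set L := C.comap (QuotientGroup.mk' Z) with hL
  have hZL : Z ≤ L := fun z hz => by
    rw [hL, Subgroup.mem_comap, show QuotientGroup.mk' Z z = 1 from (QuotientGroup.eq_one_iff z).2 hz]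
    exact one_mem _
  haveI := Fintype.ofFinite L
  haveI := Fintype.ofFinite (Z.subgroupOf L)
  have hxL : x ∈ L := hcC
  have hxZ : x ∉ Z := by
    intro hx
    have h1 : (x : H ⧸ Z) = 1 := (QuotientGroup.eq_one_iff x).2 hx
    have hbot : C = ⊥ := by
      rw [eq_bot_iff]
      intro y hy
      obtain ⟨i, hi⟩ := Subgroup.mem_zpowers_iff.1 (hgen ⟨y, hy⟩)
      have := congrArg Subtype.val hi
      simp only [SubgroupClass.coe_zpow, h1, one_zpow] at this
      exact Subgroup.mem_bot.2 this.symm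
    refine hZ (eq_top_iff.2 fun y _ => ?_)
    have : (y : H ⧸ Z) ∈ C := by
      rw [← hcc, Subgroup.mem_centralizer_iff]
      intro w hw
      rw [hbot] at hw
      rw [show w = 1 from hw, one_mul, mul_one]
    rw [hbot] at this
    exact (QuotientGroup.eq_one_iff y).1 this
  let ψ0 : ↥L ⧸ Z.subgroupOf L →* C :=
    QuotientGroup.lift _ (((QuotientGroup.mk' Z).comp L.subtype).codRestrict C fun l => l.2) fun l hl => by
      refine Subtype.ext ?_
      exact (QuotientGroup.eq_one_iff (l : H)).2 hl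
  haveI : IsCyclic (↥L ⧸ Z.subgroupOf L) := by
    refine isCyclic_of_injective ψ0 ?_
    rw [← MonoidHom.ker_eq_bot_iff, eq_bot_iff]
    intro l hl
    induction l using QuotientGroup.induction_on with
    | _ l =>
      have h1 : ((l : H) : H ⧸ Z) = 1 := congrArg Subtype.val hl
      exact Subgroup.mem_bot.2 ((QuotientGroup.eq_one_iff l).2
        (Subgroup.mem_subgroupOf.2 ((QuotientGroup.eq_one_iff (l : H)).1 h1)))
  have hθinv : ∀ (g : H) (z w : Z), (w : H) = g * (z : H) * g⁻¹ → θ w = θ z := by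
    intro g z w hw
    refine mul_left_cancel₀ (Nat.cast_ne_zero.2 R.e_ne_zero) ?_
    rw [← R.res, ← R.res, hw]
    exact isClassFunction_irr R.irrTop _ g
  obtain ⟨ψ, hψ, hψres⟩ := exists_extension_of_cyclic (N := Z.subgroupOf L)
    (isIrr_subgroupOf Z hZL R.irr) (fun l z => hθinv l _ _ rfl) inferInstance
  have hψres' : IsIrrCharacter (Z.subgroupOf L) (fun n : Z.subgroupOf L => ψ n) := by
    rw [funext hψres]; exact isIrr_subgroupOf Z hZL R.irr
  -- on every lift of the generator the extension vanishes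
  have hzero : ∀ y : L, ((y : H) : H ⧸ Z) = (x : H ⧸ Z) → ψ y = 0 := by
    intro y hy
    set F : L → ℂ := fun l => if ((l : H) : H ⧸ Z) = (x : H ⧸ Z) then ψ l else 0 with hF
    have hF0 : ∀ ξ : IrrCharacter H, classInner F (fun l : L => (ξ : H → ℂ) l) = 0 := by
      intro ξ
      have hsum : ∀ l : L, F l * conj ((ξ : H → ℂ) l) =
          if ((l : H) : H ⧸ Z) = (x : H ⧸ Z) then ψ l * conj ((ξ : H → ℂ) l) else 0 := fun l => by
        simp only [hF]; split_ifs <;> simp
      simp only [classInner, hsum]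
      rw [← Finset.sum_filter]
      by_cases hξ : (ξ : H → ℂ) = χ
      · rw [Finset.sum_eq_zero, mul_zero]
        intro l hl
        have hlZ : (l : H) ∉ Z := fun hlZ => hxZ ((QuotientGroup.eq_one_iff x).1 (by
          rw [← (Finset.mem_filter.1 hl).2]; exact (QuotientGroup.eq_one_iff _).2 hlZ))
        rw [hξ, R.vanish hlZ, map_zero, mul_zero]
      · have hY : IsCharacter L (fun l : L => conj ((ξ : H → ℂ) l)) :=
          isCharacter_restrict (isCharacter_conj (isCharacter_of_irr ξ.2)) L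
        have hA := isCharacter_cosetAvg (Z.subgroupOf L) (isCharacter_mul (isCharacter_of_irr hψ) hY)
        have h1 : cosetAvg (Z.subgroupOf L) (ψ * fun l : L => conj ((ξ : H → ℂ) l)) 1 = 0 := by
          rw [← R.inner_eq_zero ξ.2 hξ, ← classInner_equiv (Subgroup.subgroupOfEquivOfLe hZL)]
          simp only [cosetAvg, classInner, Pi.mul_apply, mul_one, hψres]
          rfl
        have h2 := norm_char_le hA (⟨x, hxL⟩ : L)
        rw [h1, norm_zero, norm_le_zero_iff] at h2
        simp only [cosetAvg, mul_eq_zero, inv_eq_zero, Nat.cast_eq_zero, Nat.card_pos.ne', false_or] at h2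
        refine mul_eq_zero_of_right _ (Eq.trans ?_ h2)
        refine Finset.sum_bij' (fun l hl => (⟨l * (⟨x, hxL⟩ : L)⁻¹, ?_⟩ : Z.subgroupOf L))
          (fun n _ => (n : L) * ⟨x, hxL⟩) (fun _ _ => Finset.mem_univ _) (fun n _ => ?_)
          (fun l _ => ?_) (fun n _ => ?_) (fun l hl => ?_)
        · rw [Subgroup.mem_subgroupOf, ← QuotientGroup.eq_one_iff]
          show (((l : H) * x⁻¹ : H) : H ⧸ Z) = 1
          rw [QuotientGroup.mk_mul, QuotientGroup.mk_inv, (Finset.mem_filter.1 hl).2, mul_inv_cancel]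
        · refine Finset.mem_filter.2 ⟨Finset.mem_univ _, ?_⟩
          show ((((n : L) : H) * x : H) : H ⧸ Z) = _
          rw [QuotientGroup.mk_mul, (QuotientGroup.eq_one_iff (((n : L) : H))).2 (Subgroup.mem_subgroupOf.1 n.2), one_mul]
        · simp
        · exact Subtype.ext (mul_inv_cancel_right _ _)
        · simp
    have hI : indFun L F = 0 := by
      refine eq_zero_of_orthogonal (indFun_isClassFunction L F) fun ξ hξ => ?_
      rw [frobenius_reciprocity L F (isClassFunction_irr hξ)]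
      exact hF0 ⟨ξ, hξ⟩
    have h3 := congrFun hI (y : H)
    simp only [indFun, Pi.zero_apply, mul_eq_zero, inv_eq_zero, Nat.cast_eq_zero, Nat.card_pos.ne',
      false_or] at h3
    have h4 : ∀ g : H, extendByZero L F (g⁻¹ * (y : H) * g) = if g ∈ L then ψ y else 0 := by
      intro g
      split_ifs with hg
      · rw [extendByZero_of_mem L F (L.mul_mem (L.mul_mem (L.inv_mem hg) y.2) hg)]
        have hcg : (x : H ⧸ Z) * (g : H ⧸ Z) = (g : H ⧸ Z) * (x : H ⧸ Z) := by
          have h := hg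
          rw [hL, Subgroup.mem_comap, ← hcc, Subgroup.mem_centralizer_iff] at h
          exact h _ hcC
        simp only [hF]
        rw [if_pos (by
          rw [QuotientGroup.mk_mul, QuotientGroup.mk_mul, QuotientGroup.mk_inv, hy, mul_assoc, hcg,
            inv_mul_cancel_left])]
        have := isClassFunction_irr hψ y ((⟨g, hg⟩ : L)⁻¹)
        rw [inv_inv] at this
        exact this
      · by_cases hm : g⁻¹ * (y : H) * g ∈ L
        · rw [extendByZero_of_mem L F hm]
          simp only [hF]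
          rw [if_neg]
          intro he
          refine hg ?_
          rw [hL, Subgroup.mem_comap, ← hcc, Subgroup.mem_centralizer_iff]
          intro w hw
          obtain ⟨i, hi⟩ := Subgroup.mem_zpowers_iff.1 (hgen ⟨w, hw⟩)
          have hi' := congrArg Subtype.val hi
          simp only [SubgroupClass.coe_zpow] at hi'
          have hcomm : Commute (x : H ⧸ Z) (g : H ⧸ Z) := by
            rw [QuotientGroup.mk_mul, QuotientGroup.mk_mul, QuotientGroup.mk_inv, hy] at he
            calc (x : H ⧸ Z) * (g : H ⧸ Z) = (g : H ⧸ Z) * ((g : H ⧸ Z)⁻¹ * (x : H ⧸ Z) * (g : H ⧸ Z)) := by group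
              _ = _ := by rw [he]
          rw [← hi']
          exact hcomm.zpow_left i
        · exact extendByZero_of_not_mem L F hm
    rw [Finset.sum_congr rfl fun g _ => h4 g, ← Finset.sum_filter, Finset.sum_const, nsmul_eq_mul,
      mul_eq_zero, Nat.cast_eq_zero, Finset.card_eq_zero] at h3
    exact h3.resolve_left (Finset.ne_empty_of_mem
      (Finset.mem_filter.2 ⟨Finset.mem_univ _, L.one_mem⟩))
  have h := congrFun (cosetAvg_mul_conj (Z.subgroupOf L) hψ hψres') (⟨x, hxL⟩ : L)
  simp only [cosetAvg, Pi.mul_apply] at h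
  rw [Finset.sum_eq_zero, mul_zero] at h
  · exact zero_ne_one h
  intro n _
  rw [hzero, zero_mul]
  show ((((n : L) : H) * x : H) : H ⧸ Z) = _
  rw [QuotientGroup.mk_mul, (QuotientGroup.eq_one_iff (((n : L) : H))).2 (Subgroup.mem_subgroupOf.1 n.2), one_mul]

end CfsgLib.FullyRamified
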