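import Cfsg.Agent.Lib.CharTheory.ExtCriteria
import Cfsg.Agent.Lib.CharTheory.More
import Cfsg.Agent.Lib.CharTheory.Gallagher
import Cfsg.Agent.Lib.CharTheory.Clifford
import Cfsg.Agent.Lib.CharTheory.AbelianInertia
import Cfsg.Agent.Lib.CharTheory.CoherenceExt
import Cfsg.Agent.Lib.SylowExtra

/-!
# Fully ramified sections: Sylow subgroups, normal subgroups, complements
-/

namespace CfsgLib.FullyRamified

open Cfsg CfsgLib.CharTheory
open scoped ComplexConjugate

set_option linter.unusedVariables false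
set_option linter.style.haveILetI false
set_option linter.unusedSectionVars false

universe u v

theorem classInner_equiv {A : Type u} {B : Type v} [Group A] [Group B] [Fintype A] [Fintype B]
    (e : A ≃* B) (f g : B → ℂ) :
    classInner (fun a => f (e a)) (fun a => g (e a)) = classInner f g := by
  simp only [classInner, Nat.card_congr e.toEquiv]
  congr 1
  exact Fintype.sum_equiv e.toEquiv _ _ fun a => rfl

/-- Constituents of a constituent's restriction are constituents of the restriction. -/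
theorem inner_comp_ne_zero {A : Type u} {B : Type v} [Group A] [Group B] [Fintype A] [Fintype B]
    (f : A →* B) {X ψ : B → ℂ} (hX : IsCharacter B X) (hψ : IsIrrCharacter B ψ)
    (h : classInner X ψ ≠ 0) {ξ : A → ℂ} (hξ : IsIrrCharacter A ξ)
    (h' : classInner (fun a => ψ (f a)) ξ ≠ 0) : classInner (fun a => X (f a)) ξ ≠ 0 := by
  obtain ⟨n1, e1⟩ := classInner_char_nat (isCharacter_comp (isCharacter_sub_irr hX hψ h) f)
    (isCharacter_of_irr hξ)
  obtain ⟨n2, e2⟩ := classInner_char_nat (isCharacter_comp (isCharacter_of_irr hψ) f)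
    (isCharacter_of_irr hξ)
  have e : (fun a => X (f a)) = (fun a => (X - ψ) (f a)) + fun a => ψ (f a) := by
    funext a; simp
  have e3 : classInner (fun a => X (f a)) ξ = (n1 : ℂ) + n2 := by
    rw [e, classInner_add_left, e1, e2]
  rw [e3]
  rw [e2] at h'
  exact_mod_cast fun h0 : n1 + n2 = 0 => h' (by rw [show n2 = 0 by omega, Nat.cast_zero])

variable {H : Type u} [Group H]

/-- Restriction of a function to a subgroup. -/
def resFn (L : Subgroup H) (χ : H → ℂ) : L → ℂ := fun l => χ l

/-- A character of `L` read on a smaller subgroup. -/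
def resSub {A L : Subgroup H} (h : A ≤ L) (f : L → ℂ) : A → ℂ := fun a => f ⟨(a : H), h a.2⟩

/-- A fully ramified character. -/
structure Ramified (Z : Subgroup H) (θ : Z → ℂ) (χ : H → ℂ) (e : ℕ) : Prop where
  irr : IsIrrCharacter Z θ
  irrTop : IsIrrCharacter H χ
  sq : e ^ 2 = Z.index
  res : ∀ z : Z, χ z = (e : ℂ) * θ z

variable [Fintype H] {Z : Subgroup H} {θ : Z → ℂ} {χ : H → ℂ} {e : ℕ}

theorem Ramified.e_ne_zero (R : Ramified Z θ χ e) : e ≠ 0 := fun h =>
  Subgroup.index_ne_zero_of_finite (H := Z) (by rw [← R.sq, h]; rfl)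

/-- A fully ramified character vanishes off the subgroup. -/
theorem Ramified.vanish (R : Ramified Z θ χ e) {g : H} (hg : g ∉ Z) : χ g = 0 := by
  classical
  haveI := Fintype.ofFinite Z
  have h1 : ∑ g : H, Complex.normSq (χ g) = Nat.card H := by
    have := sum_mul_conj_irr R.irrTop
    simp only [Complex.mul_conj] at this
    exact_mod_cast this
  have h2 : ∑ z : Z, Complex.normSq (χ z) = Nat.card H := by
    have h := sum_mul_conj_irr R.irr
    simp only [Complex.mul_conj] at h
    have h' : ∑ z : Z, Complex.normSq (θ z) = (Nat.card Z : ℝ) := by exact_mod_cast h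
    calc ∑ z : Z, Complex.normSq (χ z) = ∑ z : Z, ((e : ℝ) ^ 2 * Complex.normSq (θ z)) :=
          Finset.sum_congr rfl fun z _ => by rw [R.res z, Complex.normSq_mul, Complex.normSq_natCast]; ring
      _ = (e : ℝ) ^ 2 * Nat.card Z := by rw [← Finset.mul_sum, h']
      _ = Nat.card H := by rw [← Nat.cast_pow, R.sq, ← Nat.cast_mul, Subgroup.index_mul_card]
  have h3 : ∑ g ∈ Finset.univ.filter (fun g : H => g ∉ Z), Complex.normSq (χ g) = 0 := by
    have := Finset.sum_filter_add_sum_filter_not Finset.univ (fun g : H => g ∈ Z)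
      (fun g => Complex.normSq (χ g))
    rw [Finset.sum_subtype (p := (· ∈ Z)) _ (fun g => by simp), h2, h1] at this
    linarith
  exact Complex.normSq_eq_zero.1 ((Finset.sum_eq_zero_iff_of_nonneg
    fun g _ => Complex.normSq_nonneg _).1 h3 g (by simp [hg]))

/-- Inner products on a subgroup containing the ramified one. -/
theorem Ramified.inner_res (R : Ramified Z θ χ e) {L : Subgroup H} [Fintype L] [Fintype Z]
    (hZL : Z ≤ L) (f : L → ℂ) :
    classInner (resFn L χ) f * (Z.relIndex L : ℂ) =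
      (e : ℂ) * classInner θ (resSub hZL f) := by
  classical
  have hs : ∑ l : L, resFn L χ l * conj (f l) =
      ∑ z : Z, (e : ℂ) * θ z * conj (resSub hZL f z) := by
    rw [← Finset.sum_subset (Finset.subset_univ (Finset.univ.filter fun l : L => (l : H) ∈ Z))
      (fun l _ hl => by rw [resFn, R.vanish (by simpa using hl), zero_mul])]
    refine Finset.sum_bij' (fun l hl => (⟨(l : H), (Finset.mem_filter.1 hl).2⟩ : Z))
      (fun z _ => (⟨(z : H), hZL z.2⟩ : L)) (fun _ _ => Finset.mem_univ _)
      (fun z _ => by simp) (fun _ _ => rfl) (fun _ _ => rfl) (fun l hl => ?_)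
    rw [← R.res ⟨(l : H), (Finset.mem_filter.1 hl).2⟩]
    rfl
  simp only [classInner, hs, mul_assoc, ← Finset.mul_sum]
  have hc : (Nat.card L : ℂ) = (Z.relIndex L : ℂ) * Nat.card Z := by
    rw [← Nat.cast_mul, Subgroup.relIndex, ← Nat.card_congr (Subgroup.subgroupOfEquivOfLe hZL).toEquiv,
      Subgroup.index_mul_card]
  have hr : (Z.relIndex L : ℂ) ≠ 0 := Nat.cast_ne_zero.2 Subgroup.index_ne_zero_of_finite
  have hz : (Nat.card Z : ℂ) ≠ 0 := Nat.cast_ne_zero.2 Nat.card_pos.ne'
  rw [hc]
  field_simp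

theorem Ramified.inner_self (R : Ramified Z θ χ e) {L : Subgroup H} [Fintype L] [Fintype Z]
    (hZL : Z ≤ L) :
    classInner (resFn L χ) (resFn L χ) * (Z.relIndex L : ℂ) = (e : ℂ) ^ 2 := by
  rw [R.inner_res hZL, show resSub hZL (resFn L χ) = (e : ℂ) • θ from funext R.res,
    classInner_smul_right, Complex.conj_natCast, classInner_irr_self R.irr, mul_one, pow_two]

/-- A constituent of the restriction is a multiple of the character below. -/
theorem Ramified.res_constituent (R : Ramified Z θ χ e) {L : Subgroup H} [Fintype L] [Fintype Z]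
    (hZL : Z ≤ L) {η : L → ℂ} (hη : IsIrrCharacter L η)
    (hc : classInner (resFn L χ) η ≠ 0) :
    ∃ f : ℕ, f ≠ 0 ∧ resSub hZL η = (f : ℂ) • θ := by
  classical
  have hX : IsCharacter L (resFn L χ) := isCharacter_restrict (isCharacter_of_irr R.irrTop) L
  have hηr : IsCharacter Z (resSub hZL η) :=
    isCharacter_comp (isCharacter_of_irr hη) (Subgroup.inclusion hZL)
  obtain ⟨f, hf⟩ := classInner_char_nat hηr (isCharacter_of_irr R.irr)
  have key : resSub hZL η = (f : ℂ) • θ := by
    conv_lhs => rw [eq_sum_irr (isClassFunction_char hηr)]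
    rw [Finset.sum_eq_single (⟨θ, R.irr⟩ : IrrCharacter Z)]
    · rw [hf]
    · intro ψ _ hne
      by_contra h0
      have h1 : classInner (resSub hZL η) (ψ : Z → ℂ) ≠ 0 := fun h => h0 (by rw [h, zero_smul])
      have h2 := inner_comp_ne_zero (Subgroup.inclusion hZL) hX hη hc ψ.2 h1
      apply h2
      show classInner (fun z : Z => χ z) (ψ : Z → ℂ) = 0
      rw [show (fun z : Z => χ z) = (e : ℂ) • θ from funext R.res, classInner_smul_left,
        classInner_irr_ne R.irr ψ.2 (fun h => hne (Subtype.ext h.symm)), mul_zero]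
    · exact fun h => absurd (Finset.mem_univ _) h
  refine ⟨f, fun h0 => ?_, key⟩
  have := congrFun key 1
  rw [h0, Nat.cast_zero, zero_smul] at this
  exact irr_ne_zero hη this

variable {p : ℕ} [hp : Fact p.Prime]

/-- On a Sylow subgroup above `Z` the restriction is a multiple of one irreducible. -/
theorem Ramified.sylow (R : Ramified Z θ χ e) {Q : Subgroup H} [Fintype Q] [Fintype Z]
    (hZQ : Z ≤ Q) {k : ℕ} (hk : Z.relIndex Q = p ^ k) (hQ : ¬ p ∣ Q.index) :
    ∃ (η : Q → ℂ) (b e' : ℕ), IsIrrCharacter Q η ∧ k = 2 * b ∧ e = p ^ b * e' ∧ ¬ p ∣ e' ∧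
      resFn Q χ = (e' : ℂ) • η ∧ resSub hZQ η = ((p ^ b : ℕ) : ℂ) • θ := by
  classical
  obtain ⟨b, e', he', hne⟩ :=
    Nat.exists_eq_pow_mul_and_not_dvd R.e_ne_zero p hp.out.ne_one |>.imp fun b h => h.imp
      fun e' h' => And.symm h'
  have hkb : k = 2 * b := by
    have h := Subgroup.relIndex_mul_index hZQ
    rw [hk, ← R.sq, he'] at h
    have h2 := congrArg (fun n => n.factorization p) h
    rw [mul_pow, ← pow_mul, Nat.factorization_mul (pow_ne_zero _ hp.out.ne_zero)
      Subgroup.index_ne_zero_of_finite, Nat.factorization_mul (pow_ne_zero _ hp.out.ne_zero)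
      (pow_ne_zero _ fun h0 : e' = 0 => hne (h0 ▸ dvd_zero p))] at h2
    simp only [Finsupp.add_apply, Nat.Prime.factorization_pow hp.out, Finsupp.single_eq_same,
      Nat.factorization_eq_zero_of_not_dvd hQ,
      Nat.factorization_eq_zero_of_not_dvd (fun hd => hne (hp.out.dvd_of_dvd_pow hd))] at h2
    omega
  subst hkb
  have hX : IsCharacter Q (resFn Q χ) := isCharacter_restrict (isCharacter_of_irr R.irrTop) Q
  obtain ⟨η, hη, hc⟩ := exists_constituent hX fun h0 => irr_ne_zero R.irrTop (congrFun h0 1)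
  obtain ⟨f, hf0, hf⟩ := R.res_constituent hZQ hη hc
  obtain ⟨m, hm⟩ := classInner_char_nat hX (isCharacter_of_irr hη)
  have h1 := R.inner_res hZQ η
  rw [hm, hf, classInner_smul_right, Complex.conj_natCast, classInner_irr_self R.irr, mul_one,
    hk, he'] at h1
  have h1' : m * p ^ (2 * b) = p ^ b * e' * f := by exact_mod_cast h1
  have h2 : m * p ^ b = e' * f := by
    apply Nat.eq_of_mul_eq_mul_left (pow_pos hp.out.pos b)
    calc p ^ b * (m * p ^ b) = m * p ^ (2 * b) := by ring
      _ = p ^ b * e' * f := h1'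
      _ = p ^ b * (e' * f) := by ring
  have hdvd : p ^ b ∣ f := (Nat.Coprime.pow_left b ((Nat.Prime.coprime_iff_not_dvd hp.out).2 hne)
    ).dvd_of_dvd_mul_left ⟨m, by rw [← h2, mul_comm]⟩
  obtain ⟨c, rfl⟩ := hdvd
  have hmc : m = e' * c := Nat.eq_of_mul_eq_mul_left (pow_pos hp.out.pos b) (by
    rw [mul_comm, h2]; ring)
  have hc0 : c ≠ 0 := fun h0 => hf0 (by rw [h0, mul_zero])
  have h3 := R.inner_self hZQ
  rw [hk, he'] at h3
  have h4 : classInner (resFn Q χ) (resFn Q χ) = ((e' ^ 2 : ℕ) : ℂ) := by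
    have hpc : ((p ^ (2 * b) : ℕ) : ℂ) ≠ 0 := Nat.cast_ne_zero.2 (pow_ne_zero _ hp.out.ne_zero)
    refine mul_right_cancel₀ hpc (h3.trans ?_)
    push_cast; ring
  obtain ⟨r, hr0, hr, hzero⟩ := classInner_self_nonneg_real (resFn Q χ - (m : ℂ) • η)
  have h5 : classInner (resFn Q χ - (m : ℂ) • η) (resFn Q χ - (m : ℂ) • η) =
      ((e' ^ 2 : ℕ) : ℂ) - (m : ℂ) ^ 2 := by
    have hm' : classInner η (resFn Q χ) = (m : ℂ) := by
      rw [← classInner_comm, hm, Complex.conj_natCast]
    simp only [classInner_sub_left, classInner_sub_right, classInner_smul_left,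
      classInner_smul_right, Complex.conj_natCast, classInner_irr_self hη, h4, hm, hm']
    ring
  rw [hr] at h5
  have h6 : r = ((e' : ℝ)) ^ 2 - (m : ℝ) ^ 2 := by
    have := congrArg Complex.re h5
    simpa [← Complex.ofReal_natCast, ← Complex.ofReal_pow] using this
  have hc1 : c = 1 := by
    by_contra h1c
    have h2c : (2 : ℝ) ≤ c := by exact_mod_cast (show 2 ≤ c by omega)
    have he'pos : (0 : ℝ) < e' := by
      exact_mod_cast Nat.pos_of_ne_zero fun h0 : e' = 0 => hne (h0 ▸ dvd_zero p)
    rw [hmc, Nat.cast_mul] at h6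
    nlinarith [mul_le_mul_of_nonneg_left h2c he'pos.le]
  subst hc1
  rw [mul_one] at hmc hf
  have h7 : r = 0 := by rw [h6, hmc, sub_self]
  refine ⟨η, b, e', hη, rfl, he', hne, ?_, hf⟩
  have := hzero h7
  rw [sub_eq_zero, hmc] at this
  exact this

end CfsgLib.FullyRamified
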